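import Groth.Agent.SteinX.Generic
import Groth.Prelude.Def_ega3

/-!
# Connectedness of the generic fibre from the relative algebraic closure of function fields
-/

universe u

set_option backward.isDefEq.respectTransparency false
set_option backward.isDefEq.respectTransparency.types false
set_option linter.style.haveILetI false
set_option maxHeartbeats 1000000

open CategoryTheory CategoryTheory.Limits AlgebraicGeometry TopologicalSpace

namespace Groth.Agent.SteinX

/-- An integral morphism of integral schemes has one point over the generic point. -/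
theorem subsingleton_fiber_generic {N S : Scheme.{u}} (g : N ⟶ S) [IsIntegral N] [IsIntegral S] [IsIntegralHom g]
    [IsDominant g] : Subsingleton ↥(g.fiber (genericPoint S)) := by
  let η := genericPoint S
  haveI : IsIntegralHom (g.fiberToSpecResidueField η) := MorphismProperty.pullback_snd _ _ inferInstance
  obtain ⟨w₀, hw₀⟩ : genericPoint N ∈ Set.range (g.fiberι η) := by
    rw [Scheme.Hom.range_fiberι]; exact apply_genericPoint_eq g
  haveI : PreconnectedSpace ↥(g.fiber η) := ⟨by
    have : (Set.univ : Set ↥(g.fiber η)) = closure {w₀} :=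
      (Set.eq_univ_of_forall fun w => specializes_iff_mem_closure.1
        ((g.fiberι η).isEmbedding.isInducing.specializes_iff.1 (hw₀ ▸ genericPoint_specializes _))).symm
    rw [this]
    exact isPreconnected_singleton.closure⟩
  exact subsingleton_of_integral_field (g.fiberToSpecResidueField η)

variable {X Y : Scheme.{u}} [IsIntegral X] [IsIntegral Y]

theorem isDominant_of_hdom (f : X ⟶ Y) (hdom : f.base (genericPoint X) ⤳ genericPoint Y) : IsDominant f := by
  refine ⟨dense_iff_closure_eq.2 (Set.eq_univ_of_univ_subset ?_)⟩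
  intro y _
  exact closure_mono (Set.singleton_subset_iff.2 (Set.mem_range_self (f := f) (genericPoint X)))
    (specializes_iff_mem_closure.1 (hdom.trans (genericPoint_specializes y)))

/-- Algebraic elements of the function field upstairs are purely inseparable: the finite part of the Stein
factorization is radicial at the generic point. -/
theorem genericPts_of_radical (f : X ⟶ Y) [IsProper f] (hdom : f.base (genericPoint X) ⤳ genericPoint Y)
    (hrad : ∀ x : X.functionField,
      (∃ q : Polynomial Y.functionField, q ≠ 0 ∧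
        Polynomial.eval₂ (CohIII.stalkToFunctionField f (genericPoint Y) hdom) x q = 0) →
      ∃ e : ℕ, x ^ (ringExpChar X.functionField ^ e) ∈
        Set.range (CohIII.stalkToFunctionField f (genericPoint Y) hdom))
    (Ω : Type u) [Field Ω] (f₁ f₂ : Spec (CommRingCat.of Ω) ⟶ f.normalization)
    (h₁ : f₁ default = genericPoint f.normalization) (h₂ : f₂ default = genericPoint f.normalization)
    (h : f₁ ≫ f.fromNormalization = f₂ ≫ f.fromNormalization) : f₁ = f₂ := by
  haveI := isDominant_of_hdom f hdom
  haveI : IsDominant (f.toNormalization ≫ f.fromNormalization) := by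
    rw [f.toNormalization_fromNormalization]; infer_instance
  haveI : IsDominant f.fromNormalization := IsDominant.of_comp f.toNormalization f.fromNormalization
  let g := f.fromNormalization
  let t := f.toNormalization
  obtain ⟨_, ⟨U, hU, rfl⟩, hηU, -⟩ :=
    Y.isBasis_affineOpens.exists_subset_of_mem_open (Set.mem_univ (genericPoint Y)) isOpen_univ
  have hU' : IsAffineOpen U := hU
  have hV : IsAffineOpen (g ⁻¹ᵁ U) := hU'.preimage g
  have hgη : g (genericPoint f.normalization) = genericPoint Y := apply_genericPoint_eq g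
  have hfη : f (genericPoint X) = genericPoint Y := apply_genericPoint_eq f
  have hηV : genericPoint f.normalization ∈ g ⁻¹ᵁ U := by
    show g (genericPoint f.normalization) ∈ U
    rw [hgη]; exact hηU
  have hξ : genericPoint X ∈ t ⁻¹ᵁ (g ⁻¹ᵁ U) := by
    show t (genericPoint X) ∈ g ⁻¹ᵁ U
    rw [apply_genericPoint_eq t]; exact hηV
  haveI : Nonempty U := ⟨⟨_, hηU⟩⟩
  haveI : Nonempty (g ⁻¹ᵁ U : f.normalization.Opens) := ⟨⟨_, hηV⟩⟩
  haveI : Nonempty (t ⁻¹ᵁ (g ⁻¹ᵁ U) : X.Opens) := ⟨⟨_, hξ⟩⟩
  haveI := functionField_isFractionRing_of_isAffineOpen Y U hU'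
  let B := Γ(f.normalization, g ⁻¹ᵁ U)
  let θ : B →+* X.functionField :=
    (X.presheaf.germ (t ⁻¹ᵁ (g ⁻¹ᵁ U)) (genericPoint X) hξ).hom.comp (t.app (g ⁻¹ᵁ U)).hom
  have hθ : Function.Injective θ := by
    haveI : IsIso (t.app (g ⁻¹ᵁ U)) := FlatMisc.isIso_toNormalization_app f _
    exact (germ_injective_of_isIntegral X (genericPoint X) hξ).comp
      (ConcreteCategory.bijective_of_isIso (t.app (g ⁻¹ᵁ U))).1
  let ι := CohIII.stalkToFunctionField f (genericPoint Y) hdom
  have hθA : ∀ a : Γ(Y, U), θ (g.app U a) = ι (algebraMap Γ(Y, U) Y.functionField a) := fun a => by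
    show X.presheaf.germ _ (genericPoint X) hξ (t.app _ (g.app U a)) =
      f.stalkMap (genericPoint X) (Y.presheaf.stalkSpecializes hdom (Y.presheaf.germ U (genericPoint Y) hηU a))
    rw [← Scheme.Hom.germ_stalkMap_apply]
    have e : Y.presheaf.stalkSpecializes hdom (Y.presheaf.germ U (genericPoint Y) hηU a) =
        Y.presheaf.germ U (f (genericPoint X)) (hfη ▸ hηU) a :=
      ConcreteCategory.congr_hom (Y.presheaf.germ_stalkSpecializes hηU hdom) a
    rw [e, Scheme.Hom.germ_stalkMap_apply]
    have : ∀ (m : X ⟶ Y) (hm : m = f) (p : m (genericPoint X) ∈ U),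
        X.presheaf.germ (m ⁻¹ᵁ U) (genericPoint X) p (m.app U a) =
          X.presheaf.germ (f ⁻¹ᵁ U) (genericPoint X) (hm ▸ p) (f.app U a) := by
      intro m hm p; subst hm; rfl
    have e2 := this (t ≫ g) f.toNormalization_fromNormalization hξ
    rw [Scheme.Hom.germ_stalkMap_apply]
    exact e2
  have hmem : ∀ k : Spec (CommRingCat.of Ω) ⟶ f.normalization, k default = genericPoint f.normalization →
      Set.range k ⊆ Set.range hV.fromSpec := by
    rintro k hk _ ⟨x, rfl⟩
    rw [hV.range_fromSpec, Subsingleton.elim x default, hk]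
    exact hηV
  let l₁ := IsOpenImmersion.lift hV.fromSpec f₁ (hmem f₁ h₁)
  let l₂ := IsOpenImmersion.lift hV.fromSpec f₂ (hmem f₂ h₂)
  obtain ⟨φ₁, hφ₁⟩ : ∃ φ, Spec.map φ = l₁ := ⟨Spec.preimage l₁, Spec.map_preimage l₁⟩
  obtain ⟨φ₂, hφ₂⟩ : ∃ φ, Spec.map φ = l₂ := ⟨Spec.preimage l₂, Spec.map_preimage l₂⟩
  have e₁ : Spec.map φ₁ ≫ hV.fromSpec = f₁ := by rw [hφ₁]; exact IsOpenImmersion.lift_fac _ _ _
  have e₂ : Spec.map φ₂ ≫ hV.fromSpec = f₂ := by rw [hφ₂]; exact IsOpenImmersion.lift_fac _ _ _
  have hsq : Spec.map (g.app U) ≫ hU'.fromSpec = hV.fromSpec ≫ g := by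
    rw [Scheme.Hom.app_eq_appLE]
    exact hU'.SpecMap_appLE_fromSpec g hV le_rfl
  have hφ : ∀ a, φ₁ (g.app U a) = φ₂ (g.app U a) := by
    have h' : f₁ ≫ g = f₂ ≫ g := h
    rw [← e₁, ← e₂, Category.assoc, Category.assoc, ← hsq, ← Category.assoc, ← Category.assoc,
      ← Spec.map_comp, ← Spec.map_comp, cancel_mono] at h'
    exact fun a => ConcreteCategory.congr_hom (Spec.map_injective h') a
  have hinjφ : ∀ b, φ₁ b = 0 → b = 0 := fun b hb => by
    rw [← basicOpen_eq_bot_iff]
    refine TopologicalSpace.Opens.ext (Set.eq_empty_iff_forall_notMem.2 fun z hz => ?_)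
    have hmem1 : genericPoint f.normalization ∈ f.normalization.basicOpen b :=
      (genericPoint_specializes z).mem_open (f.normalization.basicOpen b).isOpen hz
    rw [← h₁, ← e₁, Scheme.Hom.comp_apply] at hmem1
    have : (Spec.map φ₁ default : PrimeSpectrum B) ∈ PrimeSpectrum.basicOpen b := by
      have := hmem1
      rw [← Scheme.Hom.mem_preimage, hV.fromSpec_preimage_basicOpen] at this
      exact this
    have hdef : ∀ P : PrimeSpectrum Ω, φ₁ b ∈ P.asIdeal := fun P => by rw [hb]; exact P.asIdeal.zero_mem
    exact this (hdef (show PrimeSpectrum Ω from (default : Spec (CommRingCat.of Ω))))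
  rw [← e₁, ← e₂]
  congr 2
  refine CommRingCat.hom_ext (RingHom.ext fun b => ?_)
  obtain ⟨P, hPm, hP⟩ := g.isIntegral_app U hU' b
  let σ : Γ(Y, U) →+* Y.functionField := algebraMap Γ(Y, U) Y.functionField
  obtain ⟨e, c, hc⟩ := hrad (θ b) ⟨P.map σ, (hPm.map σ).ne_zero, by
    rw [Polynomial.eval₂_map,
      show ι.comp σ = θ.comp (g.app U).hom from RingHom.ext fun a => (hθA a).symm]
    exact (Polynomial.hom_eval₂ P (g.app U).hom θ b).symm.trans (by rw [hP, map_zero])⟩
  obtain ⟨a, s, hs, rfl⟩ := IsFractionRing.div_surjective (A := Γ(Y, U)) c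
  let q := ringExpChar X.functionField
  have hs0 : algebraMap Γ(Y, U) Y.functionField s ≠ 0 :=
    IsFractionRing.to_map_ne_zero_of_mem_nonZeroDivisors hs
  have hrel : g.app U s * b ^ q ^ e = g.app U a := by
    refine hθ ?_
    rw [map_mul, map_pow, hθA, hθA, ← hc, ← map_mul, mul_div_cancel₀ _ hs0]
  have hs1 : φ₁ (g.app U s) ≠ 0 := fun h0 => hs0 <| by
    have : ι (algebraMap Γ(Y, U) Y.functionField s) = 0 := by rw [← hθA, hinjφ _ h0, map_zero]
    exact ι.injective (this.trans (map_zero ι).symm)
  have hpow : φ₁ b ^ q ^ e = φ₂ b ^ q ^ e := by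
    have r₁ := congrArg φ₁.hom hrel
    have r₂ := congrArg φ₂.hom hrel
    rw [map_mul, map_pow] at r₁ r₂
    refine mul_left_cancel₀ hs1 (r₁.trans ?_)
    rw [hφ, hφ]
    exact r₂.symm
  haveI : ExpChar X.functionField q := ringExpChar.expChar _
  haveI : ExpChar B q := θ.expChar hθ q
  haveI : ExpChar Ω q := expChar_of_injective_ringHom (f := φ₁.hom)
    ((injective_iff_map_eq_zero _).2 hinjφ) q
  exact iterateFrobenius_inj Ω q e hpow

/-- The generic fibre has connected geometric fibres. -/
theorem geometricallyConnected_generic (f : X ⟶ Y) [IsProper f] (hdom : f.base (genericPoint X) ⤳ genericPoint Y)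
    (hrad : ∀ x : X.functionField,
      (∃ q : Polynomial Y.functionField, q ≠ 0 ∧
        Polynomial.eval₂ (CohIII.stalkToFunctionField f (genericPoint Y) hdom) x q = 0) →
      ∃ e : ℕ, x ^ (ringExpChar X.functionField ^ e) ∈
        Set.range (CohIII.stalkToFunctionField f (genericPoint Y) hdom)) :
    GeometricallyConnected (f.fiberToSpecResidueField (genericPoint Y)) := by
  haveI := isDominant_of_hdom f hdom
  haveI := geometricallyConnected_toNormalization f
  haveI : IsDominant (f.toNormalization ≫ f.fromNormalization) := by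
    rw [f.toNormalization_fromNormalization]; infer_instance
  haveI : IsDominant f.fromNormalization := IsDominant.of_comp f.toNormalization f.fromNormalization
  let η := genericPoint Y
  let g := f.fromNormalization
  let q := pullback.snd f.toNormalization (pullback.fst g (Y.fromSpecResidueField η))
  haveI := subsingleton_fiber_generic g
  haveI : IsIntegralHom (g.fiberToSpecResidueField η) := MorphismProperty.pullback_snd _ _ inferInstance
  obtain ⟨w₀, hw₀⟩ : genericPoint f.normalization ∈ Set.range (g.fiberι η) := by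
    rw [Scheme.Hom.range_fiberι]; exact apply_genericPoint_eq g
  haveI : Surjective (g.fiberToSpecResidueField η) := ⟨fun s => ⟨w₀, Subsingleton.elim _ _⟩⟩
  haveI : UniversallyInjective (g.fiberToSpecResidueField η) := by
    refine ((tfae_universallyInjective _).out 0 1 rfl rfl).mpr fun Ω _ a b hab => ?_
    have hp : ∀ k : Spec (CommRingCat.of Ω) ⟶ g.fiber η,
        (k ≫ g.fiberι η) default = genericPoint f.normalization := fun k => by
      rw [Scheme.Hom.comp_apply, Subsingleton.elim (k default) w₀, hw₀]
    have := genericPts_of_radical f hdom hrad Ω (a ≫ g.fiberι η) (b ≫ g.fiberι η) (hp a) (hp b) (by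
      show (a ≫ pullback.fst g (Y.fromSpecResidueField η)) ≫ g = (b ≫ pullback.fst g (Y.fromSpecResidueField η)) ≫ g
      rw [Category.assoc, Category.assoc, pullback.condition, ← Category.assoc, ← Category.assoc]
      exact congrArg (· ≫ Y.fromSpecResidueField η) hab)
    exact pullback.hom_ext this hab
  haveI : GeometricallyConnected q := MorphismProperty.pullback_snd _ _ inferInstance
  have hgc := geometricallyConnected_comp q (g.fiberToSpecResidueField η)
    (isUnivHomeo_of_integral (g.fiberToSpecResidueField η))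
  have H := (IsPullback.of_hasPullback f.toNormalization (pullback.fst g (Y.fromSpecResidueField η))).paste_vert
    (IsPullback.of_hasPullback g (Y.fromSpecResidueField η))
  rw [f.toNormalization_fromNormalization] at H
  have e : H.isoPullback.hom ≫ f.fiberToSpecResidueField η = q ≫ g.fiberToSpecResidueField η :=
    H.isoPullback_hom_snd
  rw [← e, MorphismProperty.cancel_left_of_respectsIso @GeometricallyConnected] at hgc
  exact hgc

end Groth.Agent.SteinX
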