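import Groth.Agent.SteinX.Connected
import Groth.Agent.FlatMisc.SteinUC
import Groth.Agent.S1340
import Groth.Prelude.Def_Flat

/-!
# The Stein factorization over an arbitrary base, and universal homeomorphisms
-/

universe u

set_option backward.isDefEq.respectTransparency false
set_option backward.isDefEq.respectTransparency.types false

open CategoryTheory CategoryTheory.Limits AlgebraicGeometry TopologicalSpace Opposite

namespace Groth.Agent.SteinX

variable {X Y Z : Scheme.{u}}

theorem isProper_toNormalization (f : X ⟶ Y) [IsProper f] : IsProper f.toNormalization := by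
  have : IsProper (f.toNormalization ≫ f.fromNormalization) := by
    rw [f.toNormalization_fromNormalization]; infer_instance
  exact IsProper.of_comp f.toNormalization f.fromNormalization

theorem geometricallyConnected_toNormalization (f : X ⟶ Y) [IsProper f] :
    GeometricallyConnected f.toNormalization :=
  have := isProper_toNormalization f
  geometricallyConnected f.toNormalization (FlatMisc.isIso_toNormalization_app f)

theorem isUnit_or_isNilpotent {K R : Type u} [Field K] [CommRing R] [Algebra K R] [Algebra.IsIntegral K R]
    [PreconnectedSpace (PrimeSpectrum R)] (a : R) : IsUnit a ∨ IsNilpotent a := by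
  let S := Algebra.adjoin K {a}
  have : Module.Finite K S := Module.Finite.iff_fg.2 (Algebra.IsIntegral.isIntegral a).fg_adjoin_singleton
  have : IsArtinianRing S := IsArtinianRing.of_finite K S
  obtain ⟨n, y, hy⟩ := IsArtinian.exists_pow_succ_smul_dvd
    (⟨a, Algebra.self_mem_adjoin_singleton K a⟩ : S) (1 : S)
  have h : a ^ n = a ^ n * (a * y.1) := by
    have := congrArg Subtype.val hy
    simp only [smul_eq_mul, mul_one, Subalgebra.coe_mul, Subalgebra.coe_pow, Nat.succ_eq_add_one, pow_succ] at this
    rw [← mul_assoc]
    exact this.symm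
  have h2 : ∀ m, a ^ n = a ^ n * (a * y.1) ^ m := fun m => by
    induction m with
    | zero => rw [pow_zero, mul_one]
    | succ m ih => rw [pow_succ', ← mul_assoc, ← h, ← ih]
  let e := (a * y.1) ^ n
  have he : e * (1 - e) = 0 := by
    have : e * e = e := by
      calc e * e = (a ^ n * (a * y.1) ^ n) * y.1 ^ n := by simp only [e, mul_pow]; ring
        _ = a ^ n * y.1 ^ n := by rw [← h2]
        _ = e := (mul_pow _ _ _).symm
    rw [mul_sub, mul_one, this, sub_self]
  rcases isClopen_iff.1 (PrimeSpectrum.isClopen_basicOpen_of_mul_add e (1 - e) he (by ring)) with h0 | h0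
  · right
    have : IsNilpotent e := PrimeSpectrum.basicOpen_eq_bot_iff e |>.1 (TopologicalSpace.Opens.ext (by simpa using h0))
    obtain ⟨k, hk⟩ := this
    refine ⟨n, ?_⟩
    rw [h2 (n * k), pow_mul, hk, mul_zero]
  · rcases n with _ | n
    · left
      exact isUnit_iff_exists_inv.2 ⟨y.1, by simpa using h.symm⟩
    · left
      have hu : IsUnit e := by
        by_contra hne
        obtain ⟨m, hm, hem⟩ := exists_max_ideal_of_mem_nonunits hne
        have hmem : (⟨m, hm.isPrime⟩ : PrimeSpectrum R) ∈ PrimeSpectrum.basicOpen e := by
          rw [← SetLike.mem_coe, h0]; trivial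
        exact hmem hem
      exact isUnit_of_mul_isUnit_left ((isUnit_pow_iff (by omega)).1 hu)

/-- A connected scheme integral over a field is a point. -/
theorem subsingleton_of_integral_field {P : Scheme.{u}} {K : Type u} [Field K]
    (q : P ⟶ Spec (CommRingCat.of K)) [IsIntegralHom q] [PreconnectedSpace P] : Subsingleton P := by
  have : IsAffine P := isAffine_of_isAffineHom q
  have hq : q.appTop.hom.IsIntegral := IsIntegralHom.isIntegral_app q ⊤ (isAffineOpen_top _)
  have hint : ((q.appTop.hom).comp (Scheme.ΓSpecIso (CommRingCat.of K)).inv.hom).IsIntegral :=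
    RingHom.IsIntegral.trans _ _
      (RingHom.isIntegral_of_surjective _ (Scheme.ΓSpecIso (CommRingCat.of K)).symm.commRingCatIsoToRingEquiv.surjective) hq
  algebraize [(q.appTop.hom).comp (Scheme.ΓSpecIso (CommRingCat.of K)).inv.hom]
  have : Algebra.IsIntegral K Γ(P, ⊤) := ⟨hint⟩
  have : PreconnectedSpace (PrimeSpectrum Γ(P, ⊤)) :=
    P.isoSpec.hom.surjective.denseRange.preconnectedSpace P.isoSpec.hom.continuous
  have hsub : Subsingleton (PrimeSpectrum Γ(P, ⊤)) := ⟨fun x y => PrimeSpectrum.ext (Ideal.ext fun a => by
    rcases isUnit_or_isNilpotent (K := K) a with h | h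
    · exact iff_of_false (fun hx => x.2.ne_top (Ideal.eq_top_of_isUnit_mem _ hx h))
        (fun hy => y.2.ne_top (Ideal.eq_top_of_isUnit_mem _ hy h))
    · obtain ⟨m, hm⟩ := h
      exact iff_of_true (x.2.mem_of_pow_mem m (hm ▸ zero_mem _)) (y.2.mem_of_pow_mem m (hm ▸ zero_mem _)))⟩
  exact @Equiv.subsingleton _ _ P.isoSpec.hom.homeomorph.toEquiv hsub

/-- A morphism whose geometric fibres are subsingletons is universally injective. -/
theorem universallyInjective_of_geomFibre (g : Z ⟶ Y)
    (h : ∀ (K : Type u) [Field K] (t : Spec (CommRingCat.of K) ⟶ Y), Subsingleton ↥(pullback g t)) :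
    UniversallyInjective g := by
  refine ⟨fun Z' Y' i j g' H x₁ x₂ e => ?_⟩
  let s := Y'.fromSpecResidueField (g' x₁)
  have hx : ∀ x, g' x = g' x₁ → ∃ w : ↥(pullback g' s), pullback.fst g' s w = x := fun x hx => by
    have : x ∈ Set.range (pullback.fst g' s) := by
      rw [Scheme.Pullback.range_fst]
      exact ⟨default, (Scheme.fromSpecResidueField_apply _ _).trans hx.symm⟩
    exact this
  have : Subsingleton ↥(pullback g' s) := by
    have h' := h _ (s ≫ j)
    exact ((IsPullback.of_hasPullback g' s).paste_horiz H.flip).isoPullback.hom.homeomorph.toEquiv.subsingleton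
  obtain ⟨w₁, hw₁⟩ := hx x₁ rfl
  obtain ⟨w₂, hw₂⟩ := hx x₂ e.symm
  rw [← hw₁, ← hw₂, Subsingleton.elim w₁ w₂]

theorem isUnivHomeo_of_integral (g : Z ⟶ Y) [IsIntegralHom g] [UniversallyInjective g] [Surjective g] :
    FlatMor.IsUnivHomeo g := by
  intro X' Y' i₁ i₂ f' H
  have : IsIntegralHom f' := MorphismProperty.of_isPullback H.flip ‹_›
  have : UniversallyInjective f' := MorphismProperty.of_isPullback H.flip ‹_›
  have : Surjective f' := MorphismProperty.of_isPullback H.flip ‹_›
  exact isHomeomorph_iff_continuous_isClosedMap_bijective.2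
    ⟨f'.continuous, f'.isClosedMap, f'.injective, f'.surjective⟩

/-- If the composite with a surjection has connected geometric fibres, an integral morphism is a
universal homeomorphism. -/
theorem isUnivHomeo_of_geometricallyConnected_comp (h : X ⟶ Z) (g : Z ⟶ Y) [Surjective h] [IsIntegralHom g]
    [GeometricallyConnected (h ≫ g)] : FlatMor.IsUnivHomeo g := by
  have : Surjective g := Surjective.of_comp h g
  have : UniversallyInjective g := by
    refine universallyInjective_of_geomFibre g fun K _ t => ?_
    have : IsIntegralHom (pullback.snd g t) := MorphismProperty.pullback_snd g t inferInstance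
    let q := pullback.snd h (pullback.fst g t)
    have : Surjective q := MorphismProperty.pullback_snd h _ inferInstance
    have : ConnectedSpace ↥(pullback (h ≫ g) t) :=
      GeometricallyConnected.geometrically_connectedSpace _ _ _ (.of_hasPullback _ _)
    have : ConnectedSpace ↥(pullback h (pullback.fst g t)) :=
      ZarConn.connectedSpace_of_homeomorph (pullbackRightPullbackFstIso g t h).symm.hom.homeomorph
    have : ConnectedSpace ↥(pullback g t) := q.surjective.connectedSpace q.continuous
    exact subsingleton_of_integral_field (pullback.snd g t)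
  exact isUnivHomeo_of_integral g

end Groth.Agent.SteinX
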