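import Groth.Agent.SteinX.Henselian
import Groth.Agent.ZarConn.Basic
import Groth.Agent.EtH0Lib.Components

/-!
# Zariski connectedness over an arbitrary base
-/

universe u

set_option backward.isDefEq.respectTransparency false
set_option backward.isDefEq.respectTransparency.types false
set_option linter.style.haveILetI false

open CategoryTheory CategoryTheory.Limits AlgebraicGeometry TopologicalSpace Opposite

namespace Groth.Agent.SteinX

variable {X Y : Scheme.{u}}

theorem connectedSpace_closedFibre {A : Type u} [CommRing A] [HenselianLocalRing A]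
    (p : X ⟶ Spec (CommRingCat.of A)) [IsProper p] (hp : Function.Bijective p.appTop) {K : Type u} [Field K]
    (π : A →+* K) (hπ : Function.Surjective π) :
    ConnectedSpace ↥(pullback p (Spec.map (CommRingCat.ofHom π))) := by
  let e : A ≃+* Γ(X, ⊤) :=
    (Scheme.ΓSpecIso (CommRingCat.of A)).symm.commRingCatIsoToRingEquiv.trans (RingEquiv.ofBijective p.appTop.hom hp)
  haveI : Nontrivial Γ(X, ⊤) := e.injective.nontrivial
  haveI : ConnectedSpace X := H23.GeomConnGamma.connectedSpace_of_idem fun a ha => by
    obtain ⟨b, rfl⟩ := e.surjective a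
    have hb : IsIdempotentElem b := e.injective (by rw [map_mul]; exact ha.eq)
    rcases IsLocalRing.isUnit_or_isUnit_one_sub_self b with h | h
    · exact Or.inr (by rw [h.mul_left_cancel (hb.eq.trans (mul_one b).symm), map_one])
    · refine Or.inl (by rw [show b = 0 from h.mul_left_cancel (by rw [mul_zero, sub_mul, one_mul, hb.eq, sub_self]), map_zero])
  have hker : RingHom.ker π = IsLocalRing.maximalIdeal A :=
    IsLocalRing.eq_maximalIdeal (RingHom.ker_isMaximal_of_surjective π hπ)
  haveI : IsClosedImmersion (Spec.map (CommRingCat.ofHom π)) := IsClosedImmersion.spec_of_surjective _ hπ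
  haveI : IsSeparated (pullback.snd p (Spec.map (CommRingCat.ofHom π))) :=
    MorphismProperty.pullback_snd p _ (inferInstance : IsSeparated p)
  haveI : QuasiSeparatedSpace ↥(pullback p (Spec.map (CommRingCat.ofHom π))) :=
    quasiSeparatedSpace_of_quasiSeparated (pullback.snd p (Spec.map (CommRingCat.ofHom π)))
  have hr : Set.range (pullback.fst p (Spec.map (CommRingCat.ofHom π))) =
      EtH0Lib.Zof p (IsLocalRing.maximalIdeal A) := by
    have h1 : Set.range (PrimeSpectrum.comap π) = PrimeSpectrum.zeroLocus (IsLocalRing.maximalIdeal A : Set A) := by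
      rw [range_comap_of_surjective K π hπ, hker]
    rw [Scheme.Pullback.range_fst]
    exact congrArg (fun T : Set (PrimeSpectrum A) => p ⁻¹' T) h1
  have hb := EtH0Lib.bijective_components (IsLocalRing.maximalIdeal A) p
    (pullback.fst p (Spec.map (CommRingCat.ofHom π))) (Scheme.Hom.isClosedEmbedding _) hr
  haveI : Subsingleton (_root_.ConnectedComponents ↥(pullback p (Spec.map (CommRingCat.ofHom π)))) :=
    hb.1.subsingleton
  haveI : Nonempty ↥(pullback p (Spec.map (CommRingCat.ofHom π))) := by
    obtain ⟨c, -⟩ := hb.2 (Classical.arbitrary _)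
    obtain ⟨x, -⟩ := _root_.ConnectedComponents.surjective_coe c
    exact ⟨x⟩
  haveI : PreconnectedSpace ↥(pullback p (Spec.map (CommRingCat.ofHom π))) :=
    preconnectedSpace_iff_connectedComponent.2 fun x =>
      Set.eq_univ_of_forall fun y => _root_.ConnectedComponents.coe_eq_coe'.1 (Subsingleton.elim _ _)
  exact ⟨inferInstance⟩

/-- Zariski's connectedness theorem in the geometric form, any base. -/
theorem connectedSpace_pullback (f : X ⟶ Y) [IsProper f]
    (hf : ∀ U : Y.Opens, IsIso (f.app U)) {K : Type u} [Field K] (s : Spec (CommRingCat.of K) ⟶ Y) :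
    ConnectedSpace ↥(pullback f s) := by
  obtain ⟨⟨y, ι⟩, rfl⟩ := (Scheme.SpecToEquivOfField K Y).symm.surjective s
  obtain ⟨_, ⟨U, hU, rfl⟩, hyU, -⟩ :=
    Y.isBasis_affineOpens.exists_subset_of_mem_open (Set.mem_univ y) isOpen_univ
  have hU' : IsAffineOpen U := hU
  haveI := hf U
  let A := Y.presheaf.stalk y
  letI : Algebra (IsLocalRing.ResidueField A) K := ι.hom.toAlgebra
  obtain ⟨B, _, _, hBh, hBf, π, hπ, he⟩ := exists_flat_henselian (A := A) K
  haveI := hBh
  haveI := hBf
  have hπA : π.comp (algebraMap A B) = ι.hom.comp (IsLocalRing.residue A) := RingHom.ext he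
  let φ : Γ(Y, U) ⟶ CommRingCat.of B := Y.presheaf.germ U y hyU ≫ CommRingCat.ofHom (algebraMap A B)
  have hφ : φ.hom.Flat := by
    refine RingHom.Flat.comp ?_ (RingHom.flat_algebraMap_iff.2 hBf)
    letI := TopCat.Presheaf.algebra_section_stalk Y.presheaf (⟨y, hyU⟩ : U)
    haveI := hU'.isLocalization_stalk ⟨y, hyU⟩
    exact RingHom.flat_algebraMap_iff.2 (IsLocalization.flat (Y.presheaf.stalk y)
      (hU'.primeIdealOf ⟨y, hyU⟩).asIdeal.primeCompl)
  have hq : Spec.map (CommRingCat.ofHom π) ≫ Spec.map φ ≫ hU'.fromSpec =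
      Spec.map ι ≫ Y.fromSpecResidueField y :=
    ZarConn.specMap_fromSpec hU' hyU _ (CommRingCat.ofHom π) ι (CommRingCat.hom_ext hπA)
  haveI := connectedSpace_closedFibre (pullback.snd f (Spec.map φ ≫ hU'.fromSpec))
    (ZarConn.bijective_appTop_of_flat f hU' φ hφ) π hπ
  exact ZarConn.connectedSpace_of_homeomorph
    (pullbackLeftPullbackSndIso f (Spec.map φ ≫ hU'.fromSpec) _ ≪≫ pullback.congrHom rfl hq).hom.homeomorph

theorem geometricallyConnected (f : X ⟶ Y) [IsProper f]
    (hf : ∀ U : Y.Opens, IsIso (f.app U)) : GeometricallyConnected f :=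
  ⟨fun K _ s P fst snd h => by
    haveI := connectedSpace_pullback f hf s
    exact ZarConn.connectedSpace_of_homeomorph h.isoPullback.symm.hom.homeomorph⟩

end Groth.Agent.SteinX
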