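import Groth.Agent.SteinX.GenConn
import Groth.Agent.SteinX.Connected
import Groth.Agent.S4433
import Groth.Agent.S2363
import Groth.Agent.FlatLoc6.Cpl
import Groth.Agent.FormCat.HenselDomain
import Groth.Agent.CplFib6.GRing
import Groth.Agent.Hensel.Local

/-!
# Connectedness of the special fibres from a trait
-/

universe u

set_option backward.isDefEq.respectTransparency false
set_option backward.isDefEq.respectTransparency.types false
set_option linter.style.haveILetI false
set_option maxHeartbeats 1000000

open CategoryTheory CategoryTheory.Limits AlgebraicGeometry TopologicalSpace IsLocalRing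

namespace Groth.Agent.SteinX

/-- A flat local extension of a DVR with the same uniformizer is a domain. -/
theorem isDomain_of_flat_unramified {R B : Type u} [CommRing R] [IsDomain R] [IsDiscreteValuationRing R]
    [CommRing B] [IsLocalRing B] [IsNoetherianRing B] [Algebra R B] [Module.Flat R B]
    (hm : (maximalIdeal R).map (algebraMap R B) = maximalIdeal B) : IsDomain B := by
  obtain ⟨π, hπ⟩ := IsDiscreteValuationRing.exists_irreducible R
  let t := algebraMap R B π
  have ht : maximalIdeal B = Ideal.span {t} := by
    rw [← hm, hπ.maximalIdeal_eq, Ideal.map_span, Set.image_singleton]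
  have hreg : ∀ b, t * b = 0 → b = 0 := fun b hb => by
    have hπreg : IsSMulRegular R π := fun x y h => mul_left_cancel₀ hπ.ne_zero h
    have := (Module.Flat.isSMulRegular_of_isRegular (M := B)
      (IsRegular.of_ne_zero hπ.ne_zero) : IsSMulRegular B π)
    exact this (show π • b = π • (0 : B) by rw [smul_zero, Algebra.smul_def]; exact hb)
  have hform : ∀ x : B, x ≠ 0 → ∃ (n : ℕ) (v : Bˣ), x = t ^ n * v := by
    intro x hx
    have hex : ∃ n, ¬ t ^ n ∣ x := by
      by_contra! hall
      apply hx
      have h := Ideal.iInf_pow_eq_bot_of_isLocalRing (maximalIdeal B) (maximalIdeal.isMaximal B).ne_top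
      have hmem : x ∈ ⨅ i, (maximalIdeal B) ^ i := Submodule.mem_iInf _ |>.2 fun i => by
        rw [ht, Ideal.span_singleton_pow, Ideal.mem_span_singleton]; exact hall i
      rwa [h, Ideal.mem_bot] at hmem
    classical
    obtain ⟨n, hn, hlt⟩ := Nat.findX hex
    rcases n with _ | n
    · exact absurd (by rw [pow_zero]; exact one_dvd x) hn
    obtain ⟨v, hv⟩ : t ^ n ∣ x := not_not.1 (hlt n n.lt_succ_self)
    have hvu : IsUnit v := by
      by_contra h
      have : v ∈ maximalIdeal B := h
      rw [ht, Ideal.mem_span_singleton] at this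
      obtain ⟨w, rfl⟩ := this
      exact hn ⟨w, by rw [hv, pow_succ]; ring⟩
    exact ⟨n, hvu.unit, by simpa using hv⟩
  haveI : Nontrivial B := inferInstance
  have hpow : ∀ n, ∀ b, t ^ n * b = 0 → b = 0 := by
    intro n
    induction n with
    | zero => intro b hb; simpa using hb
    | succ n ih => intro b hb; exact ih b (hreg _ (by rw [← hb]; ring))
  haveI : NoZeroDivisors B := ⟨fun {x y} hxy => by
    by_contra! h
    obtain ⟨n, v, rfl⟩ := hform x h.1
    obtain ⟨m, w, rfl⟩ := hform y h.2
    have : (v * w : Bˣ).val = 0 := hpow (n + m) _ (by rw [← hxy]; push_cast; ring)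
    exact (v * w).ne_zero this⟩
  exact NoZeroDivisors.to_isDomain B

/-- A complete local domain dominating a Noetherian local domain, with residue field covering a given one. -/
theorem exists_henselian_dominating (A : Type u) [CommRing A] [IsDomain A] [IsNoetherianRing A] [IsLocalRing A]
    (hA : ¬ IsField A) (K : Type u) [Field K] [Algebra (ResidueField A) K] :
    ∃ (B : Type u) (_ : CommRing B) (_ : IsDomain B) (_ : HenselianLocalRing B) (_ : IsNoetherianRing B)
      (φ : A →+* B) (L : Type u) (_ : Field L) (π : B →+* L) (j : K →+* L),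
      Function.Injective φ ∧ Function.Surjective π ∧
        ∀ a, π (φ a) = j (algebraMap (ResidueField A) K (residue A a)) := by
  let F := FractionRing A
  obtain ⟨R, hR, hmem, hdomin⟩ := Groth.Agent.S4433.result A hA F F
    (by rw [Subsingleton.elim (⊤ : IntermediateField F F) ⊥]; exact IntermediateField.fg_bot)
  haveI := hR
  let ψ : A →+* R := (algebraMap A F).codRestrict R.toSubring hmem
  have hψ : Function.Injective ψ := fun x y h => IsFractionRing.injective A F (congrArg Subtype.val h)
  haveI : IsLocalHom ψ := ⟨fun a ha => by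
    by_contra hn
    have := hdomin a hn
    have h1 : R.valuation ((ψ a : R) : F) = 1 := (R.valuation_eq_one_iff _).1 ha
    exact (ne_of_lt this) h1⟩
  letI : Algebra (ResidueField A) (ResidueField R) := (ResidueField.map ψ).toAlgebra
  let T := TensorProduct (ResidueField A) (ResidueField R) K
  haveI : Nontrivial T :=
    (Algebra.TensorProduct.includeRight_injective (B := K)
      (algebraMap (ResidueField A) (ResidueField R)).injective).nontrivial
  obtain ⟨M, hM⟩ := Ideal.exists_maximal T
  letI := Ideal.Quotient.field M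
  let L := T ⧸ M
  let iR : ResidueField R →+* L := (Ideal.Quotient.mk M).comp Algebra.TensorProduct.includeLeftRingHom
  let j : K →+* L := (Ideal.Quotient.mk M).comp
    (Algebra.TensorProduct.includeRight (R := ResidueField A) (A := ResidueField R) (B := K)).toRingHom
  letI : Algebra (ResidueField R) L := iR.toAlgebra
  obtain ⟨B₀, _, _, hN, hL, hH, hF, e, he⟩ := Groth.Agent.S2363.result (A := R) L
  haveI := hN
  haveI := hL
  haveI := hH
  haveI := hF
  haveI := FlatLoc6.isNoetherianRing_cpl B₀
  haveI := FlatLoc6.faithfullyFlat_cpl B₀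
  haveI hcpl : IsAdicComplete (maximalIdeal (EGA4.Cpl B₀)) (EGA4.Cpl B₀) := CplFib6.isAdicComplete_cpl B₀
  haveI : HenselianRing (EGA4.Cpl B₀) (maximalIdeal (EGA4.Cpl B₀)) := inferInstance
  haveI : HenselianLocalRing (EGA4.Cpl B₀) := Hensel.henselianLocalRing_of_henselianRing _
  have hm₀ : (maximalIdeal R).map (algebraMap R B₀) = maximalIdeal B₀ :=
    eq_maximalIdeal (Ideal.Quotient.maximal_of_isField _ (e.toMulEquiv.isField (Field.toIsField L)))
  haveI : Module.Flat R (EGA4.Cpl B₀) := Module.Flat.trans R B₀ (EGA4.Cpl B₀)
  have hm : (maximalIdeal R).map (algebraMap R (EGA4.Cpl B₀)) = maximalIdeal (EGA4.Cpl B₀) := by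
    rw [IsScalarTower.algebraMap_eq R B₀ (EGA4.Cpl B₀), ← Ideal.map_map, hm₀]
    exact (AdicCompletion.maximalIdeal_eq_map).symm
  haveI := isDomain_of_flat_unramified hm
  haveI : IsLocalHom (algebraMap R (EGA4.Cpl B₀)) :=
    ((local_hom_TFAE _).out 0 2).mpr hm.le
  haveI : Module.FaithfullyFlat R (EGA4.Cpl B₀) := Module.FaithfullyFlat.of_flat_of_isLocalHom
  let π : EGA4.Cpl B₀ →+* L :=
    (e.toRingHom.comp (Ideal.quotEquivOfEq hm₀.symm).toRingHom).comp
      (AdicCompletion.evalOneₐ (maximalIdeal B₀)).toRingHom
  refine ⟨EGA4.Cpl B₀, inferInstance, inferInstance, inferInstance, inferInstance,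
    (algebraMap R (EGA4.Cpl B₀)).comp ψ, L, inferInstance, π, j,
    (FaithfulSMul.algebraMap_injective R (EGA4.Cpl B₀)).comp hψ,
    (e.surjective.comp (Ideal.quotEquivOfEq hm₀.symm).surjective).comp (AdicCompletion.evalOneₐ_surjective _),
    fun a => ?_⟩
  show e (Ideal.quotEquivOfEq hm₀.symm (AdicCompletion.evalOneₐ (maximalIdeal B₀)
      (algebraMap B₀ (EGA4.Cpl B₀) (algebraMap R B₀ (ψ a))))) = _
  rw [AlgHom.commutes]
  refine (he (ψ a)).trans ?_
  show Ideal.Quotient.mk M ((algebraMap (ResidueField A) (ResidueField R) (residue A a)) ⊗ₜ 1) =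
    Ideal.Quotient.mk M (1 ⊗ₜ algebraMap (ResidueField A) K (residue A a))
  rw [Algebra.algebraMap_eq_smul_one (A := ResidueField R), Algebra.algebraMap_eq_smul_one (A := K),
    TensorProduct.smul_tmul]

variable {X Y : Scheme.{u}}

/-- A closed fibre over a henselian local ring of a connected proper scheme is connected. -/
theorem connectedSpace_closedFibre' {A : Type u} [CommRing A] [HenselianLocalRing A]
    (p : X ⟶ Spec (CommRingCat.of A)) [IsProper p] [ConnectedSpace X] {K : Type u} [Field K]
    (π : A →+* K) (hπ : Function.Surjective π) :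
    ConnectedSpace ↥(pullback p (Spec.map (CommRingCat.ofHom π))) := by
  have hker : RingHom.ker π = maximalIdeal A := eq_maximalIdeal (RingHom.ker_isMaximal_of_surjective π hπ)
  haveI : IsClosedImmersion (Spec.map (CommRingCat.ofHom π)) := IsClosedImmersion.spec_of_surjective _ hπ
  haveI : IsSeparated (pullback.snd p (Spec.map (CommRingCat.ofHom π))) :=
    MorphismProperty.pullback_snd p _ (inferInstance : IsSeparated p)
  haveI : QuasiSeparatedSpace ↥(pullback p (Spec.map (CommRingCat.ofHom π))) :=
    quasiSeparatedSpace_of_quasiSeparated (pullback.snd p (Spec.map (CommRingCat.ofHom π)))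
  have hr : Set.range (pullback.fst p (Spec.map (CommRingCat.ofHom π))) = EtH0Lib.Zof p (maximalIdeal A) := by
    have h1 : Set.range (PrimeSpectrum.comap π) = PrimeSpectrum.zeroLocus (maximalIdeal A : Set A) := by
      rw [range_comap_of_surjective K π hπ, hker]
    rw [Scheme.Pullback.range_fst]
    exact congrArg (fun T : Set (PrimeSpectrum A) => p ⁻¹' T) h1
  have hb := EtH0Lib.bijective_components (maximalIdeal A) p
    (pullback.fst p (Spec.map (CommRingCat.ofHom π))) (Scheme.Hom.isClosedEmbedding _) hr
  haveI : Subsingleton (_root_.ConnectedComponents ↥(pullback p (Spec.map (CommRingCat.ofHom π)))) :=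
    hb.1.subsingleton
  haveI : Nonempty ↥(pullback p (Spec.map (CommRingCat.ofHom π))) := by
    obtain ⟨c, -⟩ := hb.2 (Classical.arbitrary _)
    obtain ⟨x, -⟩ := _root_.ConnectedComponents.surjective_coe c
    exact ⟨x⟩
  haveI : PreconnectedSpace ↥(pullback p (Spec.map (CommRingCat.ofHom π))) :=
    preconnectedSpace_iff_connectedComponent.2 fun x =>
      Set.eq_univ_of_forall fun y => _root_.ConnectedComponents.coe_eq_coe'.1 (Subsingleton.elim _ _)
  exact ⟨inferInstance⟩

/-- Dominating components and connected geometric generic fibre: every geometric fibre is connected. -/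
theorem geometricallyConnected_of_dense [IsIntegral Y] [IsLocallyNoetherian Y] (f : X ⟶ Y) [IsProper f]
    (hgen : GeometricallyConnected (f.fiberToSpecResidueField (genericPoint Y)))
    (hopen : ∀ (Y' : Scheme.{u}) (g : Y' ⟶ Y), IrreducibleSpace ↥Y' → IsLocallyNoetherian Y' →
      IsDominant g → ∀ Z ∈ irreducibleComponents ↥(pullback f g), Dense ((pullback.snd f g).base '' Z))
    (y : Y) : GeometricallyConnected (f.fiberToSpecResidueField y) := by
  have hgenK : ∀ {Q : Type u} [Field Q] (t : Spec (CommRingCat.of Q) ⟶ Y), t default = genericPoint Y →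
      ConnectedSpace ↥(pullback f t) := by
    intro Q _ t ht
    obtain ⟨⟨z, ι⟩, hz⟩ := (Scheme.SpecToEquivOfField Q Y).symm.surjective t
    have hz' : Spec.map ι ≫ Y.fromSpecResidueField z = t := hz
    obtain rfl : z = genericPoint Y := by
      rw [← ht, ← hz', Scheme.Hom.comp_apply, Scheme.fromSpecResidueField_apply]
    subst hz'
    haveI : GeometricallyConnected (pullback.snd f (Y.fromSpecResidueField (genericPoint Y))) := hgen
    haveI : ConnectedSpace ↥(pullback (pullback.snd f (Y.fromSpecResidueField (genericPoint Y))) (Spec.map ι)) :=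
      GeometricallyConnected.geometrically_connectedSpace _ _ _ (.of_hasPullback _ _)
    exact ZarConn.connectedSpace_of_homeomorph
      (pullbackLeftPullbackSndIso f (Y.fromSpecResidueField (genericPoint Y)) (Spec.map ι)).hom.homeomorph
  by_cases hy : y = genericPoint Y
  · exact hy ▸ hgen
  refine ⟨fun K _ s P fst snd hP => ?_⟩
  obtain ⟨κ, rfl⟩ := Spec.map_surjective s
  let A := Y.presheaf.stalk y
  have hA : ¬ IsField A := by
    intro hF
    refine hy ?_
    obtain ⟨P₀, hP₀⟩ : genericPoint Y ∈ Set.range (Y.fromSpecStalk y) := by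
      rw [Scheme.range_fromSpecStalk]; exact genericPoint_specializes y
    letI := hF.toField
    rw [← hP₀, Subsingleton.elim (α := PrimeSpectrum A) P₀ (closedPoint A)]
    exact Scheme.fromSpecStalk_closedPoint.symm
  letI : Algebra (ResidueField A) K := κ.hom.toAlgebra
  obtain ⟨B, _, _, _, _, φ, L, _, π, j, hφ, hπ, hcomm⟩ := exists_henselian_dominating A hA K
  let g : Spec (CommRingCat.of B) ⟶ Y := Spec.map (CommRingCat.ofHom φ) ≫ Y.fromSpecStalk y
  haveI : IrreducibleSpace ↥(Spec (CommRingCat.of B)) := inferInstanceAs (IrreducibleSpace (PrimeSpectrum B))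
  let bot : ↥(Spec (CommRingCat.of B)) := (⊥ : PrimeSpectrum B)
  have hbot : g bot = genericPoint Y := by
    have e1 : Spec.map (CommRingCat.ofHom φ) bot = (⊥ : PrimeSpectrum A) :=
      PrimeSpectrum.ext (Ideal.comap_bot_of_injective φ hφ)
    obtain ⟨P₀, hP₀⟩ : genericPoint Y ∈ Set.range (Y.fromSpecStalk y) := by
      rw [Scheme.range_fromSpecStalk]; exact genericPoint_specializes y
    have hle : (⊥ : PrimeSpectrum A) ⤳ P₀ := (PrimeSpectrum.le_iff_specializes _ _).1 bot_le
    have h1 := hle.map (Y.fromSpecStalk y).continuous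
    rw [show g bot = Y.fromSpecStalk y (⊥ : PrimeSpectrum A) from (Scheme.Hom.comp_apply _ _ _).trans (congrArg (fun z => Y.fromSpecStalk y z) e1)]
    rw [hP₀] at h1
    exact (h1.antisymm (genericPoint_specializes _)).eq
  haveI : IsDominant g := ⟨dense_iff_closure_eq.2 (Set.eq_univ_of_univ_subset fun z _ =>
    closure_mono (Set.singleton_subset_iff.2 (Set.mem_range_self (f := g) bot))
      (hbot ▸ specializes_iff_mem_closure.1 (genericPoint_specializes z)))⟩
  let p := pullback.snd f g
  have hcomp := hopen _ g inferInstance inferInstance inferInstance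
  -- the generic part
  let Q := FractionRing B
  let q : Spec (CommRingCat.of Q) ⟶ Spec (CommRingCat.of B) := Spec.map (CommRingCat.ofHom (algebraMap B Q))
  have hq : ∀ a, q a = bot := fun a => PrimeSpectrum.ext (by
    show Ideal.comap (algebraMap B Q) (a : PrimeSpectrum Q).asIdeal = ⊥
    rw [(Ideal.eq_bot_or_top _).resolve_right (a : PrimeSpectrum Q).2.ne_top]
    exact Ideal.comap_bot_of_injective _ (IsFractionRing.injective B Q))
  haveI : ConnectedSpace ↥(pullback f (q ≫ g)) :=
    hgenK (q ≫ g) (by rw [Scheme.Hom.comp_apply, hq, hbot])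
  haveI : ConnectedSpace ↥(pullback p q) :=
    ZarConn.connectedSpace_of_homeomorph (pullbackLeftPullbackSndIso f g q).inv.homeomorph
  let G := Set.range (pullback.fst p q)
  have hG : _root_.IsConnected G := isConnected_range (pullback.fst p q).continuous
  have hGmem : ∀ z, p z = bot → z ∈ G := fun z hz => by
    show z ∈ Set.range (pullback.fst p q)
    rw [Scheme.Pullback.range_fst]
    exact ⟨default, (hq _).trans hz.symm⟩
  haveI : ConnectedSpace ↥(pullback f g) := by
    obtain ⟨g₀, hg₀⟩ := hG.nonempty
    haveI : PreconnectedSpace ↥(pullback f g) := preconnectedSpace_iff_connectedComponent.2 fun x => by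
      suffices ∀ z, z ∈ connectedComponent g₀ from
        (connectedComponent_eq (this x)) ▸ Set.eq_univ_of_forall this
      intro z
      let Z := irreducibleComponent z
      have hZ : Z ∈ irreducibleComponents ↥(pullback f g) := irreducibleComponent_mem_irreducibleComponents z
      obtain ⟨ζ, hζ⟩ := QuasiSober.sober (isIrreducible_irreducibleComponent (x := z)) isClosed_irreducibleComponent
      have hpζ : p ζ = bot := by
        have hd := hcomp Z hZ
        have hsub : p '' Z ⊆ closure {p ζ} := by
          show p '' irreducibleComponent z ⊆ _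
          rw [← hζ.def]
          refine (image_closure_subset_closure_image p.continuous).trans ?_
          rw [Set.image_singleton]
        have huniv : bot ∈ closure {p ζ} := by
          have := closure_mono hsub
          rw [closure_closure] at this
          exact this (hd bot)
        exact ((specializes_iff_mem_closure.2 huniv).antisymm
          ((PrimeSpectrum.le_iff_specializes (⊥ : PrimeSpectrum B) (p ζ)).1 bot_le)).eq
      have hζG := hG.subset_connectedComponent hg₀ (hGmem ζ hpζ)
      have hzc : z ∈ connectedComponent ζ :=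
        isIrreducible_irreducibleComponent.isConnected.subset_connectedComponent
          (hζ.mem) mem_irreducibleComponent
      rwa [← connectedComponent_eq hζG] at hzc
    exact { toNonempty := ⟨g₀⟩ }
  haveI : IsProper p := MorphismProperty.pullback_snd f g inferInstance
  haveI := connectedSpace_closedFibre' p π hπ
  -- descend from `L` to `K`
  let sK : Spec (CommRingCat.of K) ⟶ Y := Spec.map κ ≫ Y.fromSpecResidueField y
  let sj : Spec (CommRingCat.of L) ⟶ Spec (CommRingCat.of K) := Spec.map (CommRingCat.ofHom j)
  have hL : sj ≫ sK = Spec.map (CommRingCat.ofHom π) ≫ g := by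
    show Spec.map (CommRingCat.ofHom j) ≫ Spec.map κ ≫ Spec.map (Y.residue y) ≫ Y.fromSpecStalk y =
      Spec.map (CommRingCat.ofHom π) ≫ Spec.map (CommRingCat.ofHom φ) ≫ Y.fromSpecStalk y
    simp only [← Category.assoc, ← Spec.map_comp]
    congr 2
    exact CommRingCat.hom_ext (RingHom.ext fun a => (hcomm a).symm)
  haveI : ConnectedSpace ↥(pullback f (sj ≫ sK)) :=
    ZarConn.connectedSpace_of_homeomorph
      (pullbackLeftPullbackSndIso f g _ ≪≫ pullback.congrHom rfl hL.symm).hom.homeomorph
  haveI : Surjective sj := ⟨fun a => ⟨default, Subsingleton.elim (α := PrimeSpectrum K) _ _⟩⟩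
  let r := pullback.fst (pullback.snd f sK) sj
  haveI : Surjective r := MorphismProperty.pullback_fst _ _ inferInstance
  haveI : ConnectedSpace ↥(pullback (pullback.snd f sK) sj) :=
    ZarConn.connectedSpace_of_homeomorph (pullbackLeftPullbackSndIso f sK sj).inv.homeomorph
  haveI : ConnectedSpace ↥(pullback f sK) := r.surjective.connectedSpace r.continuous
  exact ZarConn.connectedSpace_of_homeomorph
    ((pullbackLeftPullbackSndIso f (Y.fromSpecResidueField y) (Spec.map κ)).symm ≪≫ hP.isoPullback.symm).hom.homeomorph

end Groth.Agent.SteinX
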