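import Groth.Agent.SteinX.Unibranch
import Groth.Agent.SteinX.Factor

/-!
# Integral morphisms of integral schemes to a geometrically unibranch scheme
-/

universe u

set_option backward.isDefEq.respectTransparency false
set_option backward.isDefEq.respectTransparency.types false
set_option linter.style.haveILetI false
set_option maxHeartbeats 1000000

open CategoryTheory CategoryTheory.Limits AlgebraicGeometry TopologicalSpace

namespace Groth.Agent.SteinX

/-- Radicial at the generic point and geometrically unibranch target: radicial everywhere. -/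
theorem universallyInjective_of_generic {N S : Scheme.{u}} (g : N ⟶ S) [IsIntegral N] [IsIntegral S]
    [IsIntegralHom g] [IsDominant g] (hS : ∀ s : S, CAlg2.IsGeomUnibranch (S.presheaf.stalk s))
    (hgen : ∀ (Ω : Type u) [Field Ω] (f₁ f₂ : Spec (CommRingCat.of Ω) ⟶ N),
      f₁ default = genericPoint N → f₂ default = genericPoint N → f₁ ≫ g = f₂ ≫ g → f₁ = f₂) :
    UniversallyInjective g := by
  refine ((tfae_universallyInjective g).out 0 1 rfl rfl).mpr fun Ω _ f₁ f₂ h => ?_
  obtain ⟨_, ⟨U, hU, rfl⟩, hsU, -⟩ :=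
    S.isBasis_affineOpens.exists_subset_of_mem_open (Set.mem_univ ((f₁ ≫ g) default)) isOpen_univ
  have hU' : IsAffineOpen U := hU
  have hV : IsAffineOpen (g ⁻¹ᵁ U) := hU'.preimage g
  have hmem : ∀ f : Spec (CommRingCat.of Ω) ⟶ N, f ≫ g = f₁ ≫ g → Set.range f ⊆ Set.range hV.fromSpec := by
    rintro f hf _ ⟨x, rfl⟩
    rw [hV.range_fromSpec, Subsingleton.elim x default]
    show (f ≫ g) default ∈ U
    rw [hf]; exact hsU
  haveI : Nonempty (g ⁻¹ᵁ U : N.Opens) := ⟨⟨f₁ default, hsU⟩⟩
  haveI : Nonempty U := ⟨⟨_, hsU⟩⟩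
  letI : Algebra Γ(S, U) Γ(N, g ⁻¹ᵁ U) := (g.appLE U (g ⁻¹ᵁ U) le_rfl).hom.toAlgebra
  haveI : Algebra.IsIntegral Γ(S, U) Γ(N, g ⁻¹ᵁ U) := ⟨fun b => by
    show (g.appLE U (g ⁻¹ᵁ U) le_rfl).hom.IsIntegralElem b
    rw [← Scheme.Hom.app_eq_appLE]
    exact g.isIntegral_app U hU' b⟩
  have hinj : Function.Injective (algebraMap Γ(S, U) Γ(N, g ⁻¹ᵁ U)) := by
    refine (injective_iff_map_eq_zero _).2 fun a ha => ?_
    have ha' : g.app U a = 0 := by
      rw [Scheme.Hom.app_eq_appLE]; exact ha
    rw [← basicOpen_eq_bot_iff]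
    refine Opens.ext (Set.eq_empty_iff_forall_notMem.2 fun s hs => ?_)
    obtain ⟨x, hx⟩ := g.denseRange.exists_mem_open (S.basicOpen a).isOpen ⟨s, hs⟩
    have hx' : x ∈ g ⁻¹ᵁ S.basicOpen a := hx
    rw [g.preimage_basicOpen, ha', Scheme.basicOpen_zero] at hx'
    exact hx'
  have hA : ∀ (p : Ideal Γ(S, U)) [p.IsPrime], CAlg2.IsGeomUnibranch (Localization.AtPrime p) := by
    intro p hp
    have hy : hU'.fromSpec ⟨p, hp⟩ ∈ U := by
      rw [← SetLike.mem_coe, ← hU'.range_fromSpec]; exact Set.mem_range_self (f := hU'.fromSpec) (⟨p, inferInstance⟩ : PrimeSpectrum Γ(S, U))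
    have he : (hU'.primeIdealOf ⟨_, hy⟩).asIdeal = p :=
      congrArg PrimeSpectrum.asIdeal (hU'.fromSpec.isOpenEmbedding.injective (hU'.fromSpec_primeIdealOf _))
    letI := S.presheaf.algebra_section_stalk (⟨_, hy⟩ : U)
    haveI h1 := hU'.isLocalization_stalk ⟨_, hy⟩
    haveI : IsLocalization.AtPrime (S.presheaf.stalk (hU'.fromSpec ⟨p, hp⟩)) p := by
      have key : ∀ (q : Ideal Γ(S, U)) [q.IsPrime], (hU'.primeIdealOf ⟨_, hy⟩).asIdeal = q →
          IsLocalization.AtPrime (S.presheaf.stalk (hU'.fromSpec ⟨p, hp⟩)) q := by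
        intro q _ e
        subst e
        exact h1
      exact key p he
    exact UnibEtale.isGeomUnibranch_of_ringEquiv
      (IsLocalization.algEquiv p.primeCompl (S.presheaf.stalk (hU'.fromSpec ⟨p, hp⟩)) (Localization.AtPrime p)).toRingEquiv (hS _)
  have hsq : Spec.map (g.appLE U (g ⁻¹ᵁ U) le_rfl) ≫ hU'.fromSpec = hV.fromSpec ≫ g :=
    hU'.SpecMap_appLE_fromSpec g hV le_rfl
  have hrad : MorLib.RUH.Radicial (algebraMap Γ(S, U) Γ(N, g ⁻¹ᵁ U)) := by
    refine radicial_of_unibranch hinj hA fun Ψ _ ψ₁ ψ₂ hψ => ?_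
    let B := Γ(N, g ⁻¹ᵁ U)
    let m : (FractionRing B →+* Ψ) → (Spec (CommRingCat.of Ψ) ⟶ N) := fun ψ =>
      Spec.map (CommRingCat.ofHom (ψ.comp (algebraMap B (FractionRing B)))) ≫ hV.fromSpec
    have hm : ∀ ψ, m ψ default = genericPoint N := fun ψ => by
      rw [← genericPoint_eq_of_isOpenImmersion hV.fromSpec, genericPoint_eq_bot_of_affine]
      show hV.fromSpec (Spec.map _ default) = _
      congr 1
      refine PrimeSpectrum.ext (eq_bot_iff.2 fun b hb => ?_)
      have hb' : (ψ.comp (algebraMap B (FractionRing B))) b ∈ (⊥ : Ideal Ψ) := by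
        have h0 : ∀ P : PrimeSpectrum Ψ, P.asIdeal = ⊥ := fun P =>
          (Ideal.eq_bot_or_top _).resolve_right P.2.ne_top
        rw [← h0 (show PrimeSpectrum Ψ from (default : Spec (CommRingCat.of Ψ)))]
        exact hb
      rw [Ideal.mem_bot] at hb'
      exact (Ideal.mem_bot).2 (IsFractionRing.injective B (FractionRing B)
        (ψ.injective (hb'.trans (map_zero ψ).symm) |>.trans (map_zero _).symm))
    have he : m ψ₁ ≫ g = m ψ₂ ≫ g := by
      simp only [m, Category.assoc, ← hsq]
      rw [← Category.assoc, ← Category.assoc, ← Spec.map_comp, ← Spec.map_comp]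
      congr 2
      refine CommRingCat.hom_ext (RingHom.ext fun a => ?_)
      exact RingHom.congr_fun hψ a
    have := hgen Ψ (m ψ₁) (m ψ₂) (hm _) (hm _) he
    rw [cancel_mono] at this
    exact IsLocalization.ringHom_ext (nonZeroDivisors B) (congrArg CommRingCat.Hom.hom (Spec.map_injective this))
  let l₁ := IsOpenImmersion.lift hV.fromSpec f₁ (hmem f₁ rfl)
  let l₂ := IsOpenImmersion.lift hV.fromSpec f₂ (hmem f₂ h.symm)
  obtain ⟨φ₁, hφ₁⟩ : ∃ φ, Spec.map φ = l₁ := ⟨Spec.preimage l₁, Spec.map_preimage l₁⟩
  obtain ⟨φ₂, hφ₂⟩ : ∃ φ, Spec.map φ = l₂ := ⟨Spec.preimage l₂, Spec.map_preimage l₂⟩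
  have e₁ : Spec.map φ₁ ≫ hV.fromSpec = f₁ := by rw [hφ₁]; exact IsOpenImmersion.lift_fac _ _ _
  have e₂ : Spec.map φ₂ ≫ hV.fromSpec = f₂ := by rw [hφ₂]; exact IsOpenImmersion.lift_fac _ _ _
  have hφ : φ₁.hom.comp (algebraMap Γ(S, U) Γ(N, g ⁻¹ᵁ U)) = φ₂.hom.comp (algebraMap Γ(S, U) Γ(N, g ⁻¹ᵁ U)) := by
    have h' : f₁ ≫ g = f₂ ≫ g := h
    rw [← e₁, ← e₂, Category.assoc, Category.assoc, ← hsq, ← Category.assoc, ← Category.assoc,
      ← Spec.map_comp, ← Spec.map_comp, cancel_mono] at h'
    exact congrArg CommRingCat.Hom.hom (Spec.map_injective h')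
  rw [← e₁, ← e₂, show φ₁ = φ₂ from CommRingCat.hom_ext (hrad Ω _ _ hφ)]

/-- Reading the generic hypothesis on the generic fibre. -/
theorem genericPts_eq {N S : Scheme.{u}} (g : N ⟶ S) [IsIntegral N] [IsIntegral S] [IsDominant g]
    [UniversallyInjective (g.fiberToSpecResidueField (genericPoint S))]
    (Ω : Type u) [Field Ω] (f₁ f₂ : Spec (CommRingCat.of Ω) ⟶ N) (h₁ : f₁ default = genericPoint N)
    (h : f₁ ≫ g = f₂ ≫ g) : f₁ = f₂ := by
  obtain ⟨⟨y, ι⟩, hy⟩ := (Scheme.SpecToEquivOfField Ω S).symm.surjective (f₁ ≫ g)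
  have hy' : Spec.map ι ≫ S.fromSpecResidueField y = f₁ ≫ g := hy
  obtain rfl : y = genericPoint S := by
    have := congrArg (fun k : Spec (CommRingCat.of Ω) ⟶ S => k default) hy'
    simp only [Scheme.Hom.comp_apply, Scheme.fromSpecResidueField_apply, h₁] at this
    rw [this]
    have hg := (genericPoint_spec N).image g.continuous
    rw [Set.image_univ, g.denseRange.closure_range] at hg
    exact hg.eq (genericPoint_spec S)
  let l₁ : Spec (CommRingCat.of Ω) ⟶ g.fiber (genericPoint S) := pullback.lift f₁ (Spec.map ι) hy'.symm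
  let l₂ : Spec (CommRingCat.of Ω) ⟶ g.fiber (genericPoint S) := pullback.lift f₂ (Spec.map ι) (h.symm.trans hy'.symm)
  have hl : l₁ = l₂ := ((tfae_universallyInjective (g.fiberToSpecResidueField (genericPoint S))).out 0 1 rfl rfl).mp
    ‹_› Ω (by
      show pullback.lift _ _ _ ≫ pullback.snd _ _ = pullback.lift _ _ _ ≫ pullback.snd _ _
      rw [pullback.lift_snd, pullback.lift_snd])
  have := congrArg (fun l => l ≫ pullback.fst g (S.fromSpecResidueField (genericPoint S))) hl
  simpa [l₁, l₂] using this

theorem apply_genericPoint_eq {N S : Scheme.{u}} (g : N ⟶ S) [IsIntegral N] [IsIntegral S] [IsDominant g] :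
    g (genericPoint N) = genericPoint S := by
  have hg := (genericPoint_spec N).image g.continuous
  rw [Set.image_univ, g.denseRange.closure_range] at hg
  exact hg.eq (genericPoint_spec S)

/-- The normalization in a purely inseparable point is universally homeomorphic. -/
theorem isUnivHomeo_fromNormalization_of_point {S : Scheme.{u}} [IsIntegral S] {L : Type u} [Field L]
    (a : Spec (CommRingCat.of L) ⟶ S) [QuasiCompact a] [QuasiSeparated a] [IsDominant a] [UniversallyInjective a]
    (hS : ∀ s : S, CAlg2.IsGeomUnibranch (S.presheaf.stalk s)) : FlatMor.IsUnivHomeo a.fromNormalization := by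
  haveI : IsDominant (a.toNormalization ≫ a.fromNormalization) := by
    rw [a.toNormalization_fromNormalization]; infer_instance
  haveI : IsDominant a.fromNormalization := IsDominant.of_comp a.toNormalization a.fromNormalization
  let η := genericPoint S
  let t := S.fromSpecResidueField η
  let N := a.normalization
  haveI : IsIntegralHom (a.fromNormalization.fiberToSpecResidueField η) :=
    MorphismProperty.pullback_snd _ _ inferInstance
  have hN : a.fromNormalization (genericPoint N) = η := apply_genericPoint_eq a.fromNormalization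
  haveI : Subsingleton ↥(a.fromNormalization.fiber η) := by
    obtain ⟨w₀, hw₀⟩ : genericPoint N ∈ Set.range (a.fromNormalization.fiberι η) := by
      rw [Scheme.Hom.range_fiberι]; exact hN
    haveI : PreconnectedSpace ↥(a.fromNormalization.fiber η) := ⟨by
      have : (Set.univ : Set ↥(a.fromNormalization.fiber η)) = closure {w₀} :=
        (Set.eq_univ_of_forall fun w => specializes_iff_mem_closure.1
          ((a.fromNormalization.fiberι η).isEmbedding.isInducing.specializes_iff.1
            (hw₀ ▸ genericPoint_specializes _))).symm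
      rw [this]
      exact isPreconnected_singleton.closure⟩
    exact subsingleton_of_integral_field (a.fromNormalization.fiberToSpecResidueField η)
  haveI : Surjective (pullback.snd a.toNormalization (pullback.fst a.fromNormalization t)) := by
    refine ⟨fun w => ?_⟩
    have : w ∈ Set.range (pullback.snd a.toNormalization (pullback.fst a.fromNormalization t)) := by
      rw [Scheme.Pullback.range_snd]
      refine ⟨genericPoint _, ?_⟩
      rw [apply_genericPoint_eq a.toNormalization]
      obtain ⟨w₀, hw₀⟩ : genericPoint N ∈ Set.range (a.fromNormalization.fiberι η) := by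
        rw [Scheme.Hom.range_fiberι]; exact hN
      exact hw₀.symm.trans (congrArg (a.fromNormalization.fiberι η) (Subsingleton.elim w₀ w))
    exact this
  haveI : UniversallyInjective (pullback.snd a.toNormalization (pullback.fst a.fromNormalization t) ≫
      a.fromNormalization.fiberToSpecResidueField η) := by
    have H := (IsPullback.of_hasPullback a.toNormalization (pullback.fst a.fromNormalization t)).paste_vert
      (IsPullback.of_hasPullback a.fromNormalization t)
    rw [a.toNormalization_fromNormalization] at H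
    exact MorphismProperty.of_isPullback H ‹UniversallyInjective a›
  haveI := MorLib.universallyInjective_of_comp_surjective
    (pullback.snd a.toNormalization (pullback.fst a.fromNormalization t))
    (a.fromNormalization.fiberToSpecResidueField η) inferInstance
  haveI : UniversallyInjective a.fromNormalization :=
    universallyInjective_of_generic a.fromNormalization hS fun Ω _ f₁ f₂ h₁ _ h =>
      genericPts_eq a.fromNormalization Ω f₁ f₂ h₁ h
  haveI : Surjective a.fromNormalization := ⟨fun s => by
    have hc := a.fromNormalization.isClosedMap.isClosed_range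
    exact (hc.closure_eq.symm.trans a.fromNormalization.denseRange.closure_range).symm.subset (Set.mem_univ s)⟩
  exact isUnivHomeo_of_integral a.fromNormalization

/-- Composite of a surjection with connected geometric fibres and a universal homeomorphism. -/
theorem geometricallyConnected_comp {X Z Y : Scheme.{u}} (h : X ⟶ Z) (g : Z ⟶ Y) [GeometricallyConnected h]
    (hg : FlatMor.IsUnivHomeo g) : GeometricallyConnected (h ≫ g) := by
  refine ⟨fun K _ t P fst snd H => ?_⟩
  have hP := hg _ _ _ (IsPullback.of_hasPullback g t).flip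
  haveI : Subsingleton ↥(pullback g t) := hP.injective.subsingleton
  obtain ⟨p, -⟩ := hP.surjective default
  let q := pullback.snd h (pullback.fst g t)
  have hc : ConnectedSpace ↥(pullback h (pullback.fst g t)) := by
    rw [connectedSpace_iff_univ]
    convert q.isConnected_preimage_singleton p using 1
    exact (Set.eq_univ_of_forall fun x => Subsingleton.elim (q x) p).symm
  exact ZarConn.connectedSpace_of_homeomorph
    ((pullbackRightPullbackFstIso g t h) ≪≫ H.isoPullback.symm).hom.homeomorph

end Groth.Agent.SteinX
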