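import Groth.Agent.LocalCrit.Residue
import Groth.Agent.S0506
import Groth.Agent.S0508
import Groth.Agent.S0509
import Mathlib.RingTheory.AlgebraicIndependent.TranscendenceBasis
import Mathlib.RingTheory.MvPolynomial.Ideal
import Mathlib.RingTheory.Flat.Localization
import Mathlib.RingTheory.Localization.AtPrime.Basic

/-!
# Flat henselian local extensions with a prescribed residue field
-/

universe u

namespace Groth.Agent.SteinX

/-- Any local ring has a flat henselian local extension with any prescribed residue field extension. -/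
theorem exists_flat_henselian {A : Type u} [CommRing A] [IsLocalRing A] (K : Type u) [Field K]
    [Algebra (IsLocalRing.ResidueField A) K] :
    ∃ (B : Type u) (_ : CommRing B) (_ : Algebra A B) (_ : HenselianLocalRing B), Module.Flat A B ∧
      ∃ π : B →+* K, Function.Surjective π ∧
        ∀ a : A, π (algebraMap A B a) = algebraMap (IsLocalRing.ResidueField A) K (IsLocalRing.residue A a) := by
  classical
  let k := IsLocalRing.ResidueField A
  obtain ⟨s, hs⟩ := exists_isTranscendenceBasis k K
  letI : Algebra A K := ((algebraMap k K).comp (IsLocalRing.residue A)).toAlgebra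
  haveI : IsScalarTower A k K := IsScalarTower.of_algebraMap_eq fun _ => rfl
  -- transcendental step
  let Q := MvPolynomial s A
  let θ : Q →ₐ[A] K := MvPolynomial.aeval ((↑) : s → K)
  have hθ : RingHom.ker θ = (IsLocalRing.maximalIdeal A).map MvPolynomial.C := by
    ext x
    rw [RingHom.mem_ker, MvPolynomial.mem_map_C_iff]
    have h1 : θ x = MvPolynomial.aeval ((↑) : s → K) (MvPolynomial.map (IsLocalRing.residue A) x) := by
      rw [show IsLocalRing.residue A = algebraMap A k from rfl, MvPolynomial.aeval_map_algebraMap]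
    rw [h1, map_eq_zero_iff _ hs.1]
    simp only [MvPolynomial.ext_iff, MvPolynomial.coeff_map, MvPolynomial.coeff_zero, IsLocalRing.residue_eq_zero_iff]
  haveI hp : (RingHom.ker θ).IsPrime := RingHom.ker_isPrime _
  let B₀ := Localization.AtPrime (RingHom.ker θ)
  have hunit : ∀ y : (RingHom.ker θ).primeCompl, IsUnit (θ y) := fun y =>
    isUnit_iff_ne_zero.mpr y.2
  let θ₀ : B₀ →ₐ[A] K := IsLocalization.liftAlgHom (S := B₀) hunit
  have hθ₀ : ∀ q : Q, θ₀ (algebraMap Q B₀ q) = θ q := fun q => IsLocalization.lift_eq hunit q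
  letI : Algebra B₀ K := θ₀.toRingHom.toAlgebra
  haveI : IsScalarTower A B₀ K := IsScalarTower.of_algebraMap_eq fun a => (θ₀.commutes a).symm
  have hmax₀ : IsLocalRing.maximalIdeal B₀ = (IsLocalRing.maximalIdeal A).map (algebraMap A B₀) := by
    rw [← Localization.AtPrime.map_eq_maximalIdeal]
    refine (congrArg (Ideal.map (algebraMap Q B₀)) hθ).trans ?_
    rw [Ideal.map_map, IsScalarTower.algebraMap_eq A Q B₀]
    rfl
  haveI hloc : IsLocalHom (algebraMap B₀ K) := by
    refine ⟨fun x hx => ?_⟩
    obtain ⟨⟨q, r⟩, rfl⟩ := IsLocalization.mk'_surjective (RingHom.ker θ).primeCompl x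
    rw [IsLocalization.AtPrime.isUnit_mk'_iff B₀ (RingHom.ker θ)]
    intro hq
    have hq0 : θ₀ (algebraMap Q B₀ q) = 0 := by rw [hθ₀]; exact RingHom.mem_ker.mp hq
    rw [← IsLocalization.mk'_spec B₀ q r, map_mul] at hq0
    have h2 : θ₀ (IsLocalization.mk' B₀ q r) ≠ 0 := hx.ne_zero
    exact (mul_ne_zero h2 (by rw [hθ₀]; exact r.2)) hq0
  let k₀ := IsLocalRing.ResidueField B₀
  letI : Algebra k₀ K := (IsLocalRing.ResidueField.lift (algebraMap B₀ K)).toAlgebra
  haveI : IsScalarTower B₀ k₀ K := IsScalarTower.of_algebraMap_eq fun b =>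
    (IsLocalRing.ResidueField.lift_residue_apply (algebraMap B₀ K) b).symm
  -- `K` is algebraic over the residue field of `B₀`
  haveI : Algebra.IsAlgebraic k₀ K := by
    let L : Subalgebra k₀ K := ⊥
    have hle : ∀ x ∈ Algebra.adjoin k (Set.range ((↑) : s → K)), ∃ y : k₀, algebraMap k₀ K y = x := by
      intro x hx
      rw [Algebra.adjoin_range_eq_range_aeval] at hx
      obtain ⟨f, rfl⟩ := hx
      obtain ⟨q, rfl⟩ := MvPolynomial.map_surjective (algebraMap A k) IsLocalRing.residue_surjective f
      refine ⟨IsLocalRing.residue B₀ (algebraMap Q B₀ q), ?_⟩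
      change IsLocalRing.ResidueField.lift (algebraMap B₀ K) _ = _
      rw [IsLocalRing.ResidueField.lift_residue_apply]
      exact (hθ₀ q).trans (MvPolynomial.aeval_map_algebraMap k ((↑) : s → K) q).symm
    choose g hg using fun x : Algebra.adjoin k (Set.range ((↑) : s → K)) => hle x x.2
    let g' : Algebra.adjoin k (Set.range ((↑) : s → K)) →+* k₀ :=
      { toFun := g
        map_one' := (algebraMap k₀ K).injective (by simp [hg])
        map_mul' := fun x y => (algebraMap k₀ K).injective (by simp [hg])
        map_zero' := (algebraMap k₀ K).injective (by simp [hg])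
        map_add' := fun x y => (algebraMap k₀ K).injective (by simp [hg]) }
    have halg := hs.isAlgebraic
    letI := g'.toAlgebra
    haveI : IsScalarTower (Algebra.adjoin k (Set.range ((↑) : s → K))) k₀ K :=
      IsScalarTower.of_algebraMap_eq fun x => (hg x).symm
    have hinj : Function.Injective (algebraMap (Algebra.adjoin k (Set.range ((↑) : s → K))) k₀) :=
      fun x y h => Subtype.ext (by rw [← hg x, ← hg y]; exact congrArg _ h)
    exact ⟨fun z => (halg.isAlgebraic z).extendScalars hinj⟩
  obtain ⟨J, hflat, hker⟩ := LocalCrit.exists_flat_quotient_ker_eq (B₀ := B₀) (K := K) (k := k₀)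
    IsLocalRing.residue_surjective
  let φ : MvPolynomial K B₀ →ₐ[B₀] K := MvPolynomial.aeval id
  have hφs : Function.Surjective φ := fun x => ⟨MvPolynomial.X x, MvPolynomial.aeval_X _ _⟩
  have hJ : ∀ x ∈ J, φ x = 0 := fun x hx => by
    have : x ∈ RingHom.ker φ := by rw [hker]; exact Submodule.mem_sup_left hx
    exact this
  let C₁ := MvPolynomial K B₀ ⧸ J
  let φ₁ : C₁ →ₐ[B₀] K := Ideal.Quotient.liftₐ J φ hJ
  have hker₁ : RingHom.ker φ₁ = (IsLocalRing.maximalIdeal A).map (algebraMap A C₁) := by
    have h1 : RingHom.ker φ₁ = (RingHom.ker φ).map (Ideal.Quotient.mk J) :=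
      Ideal.ker_quotient_lift _ hJ
    have h2 : RingHom.ker (algebraMap B₀ K) = IsLocalRing.maximalIdeal B₀ :=
      le_antisymm (IsLocalRing.le_maximalIdeal (RingHom.ker_ne_top _)) fun x hx => by
        by_contra h
        exact hx (IsLocalHom.map_nonunit x (isUnit_iff_ne_zero.mpr h))
    rw [h1, hker, Ideal.map_sup, Ideal.map_quotient_self, bot_sup_eq, h2, hmax₀, Ideal.map_map,
      Ideal.map_map, IsScalarTower.algebraMap_eq A B₀ C₁]
    rfl
  haveI hp₁ : (RingHom.ker φ₁).IsPrime := RingHom.ker_isPrime _
  let C := Localization.AtPrime (RingHom.ker φ₁)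
  haveI : Module.Flat A B₀ := Module.Flat.trans A Q B₀
  haveI : Module.Flat A C₁ := Module.Flat.trans A B₀ C₁
  haveI : Module.Flat A C := Module.Flat.trans A C₁ C
  have hmax : IsLocalRing.maximalIdeal C = (IsLocalRing.maximalIdeal A).map (algebraMap A C) := by
    rw [← Localization.AtPrime.map_eq_maximalIdeal]
    refine (congrArg (Ideal.map (algebraMap C₁ C)) hker₁).trans ?_
    rw [Ideal.map_map, ← IsScalarTower.algebraMap_eq]
  -- the residue field of `C`
  have hφ₁s : Function.Surjective φ₁ := fun x => by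
    obtain ⟨y, rfl⟩ := hφs x
    exact ⟨Ideal.Quotient.mk J y, rfl⟩
  have hunit₁ : ∀ y : (RingHom.ker φ₁).primeCompl, IsUnit (φ₁ y) := fun y =>
    isUnit_iff_ne_zero.mpr y.2
  let ψ : C →+* K := IsLocalization.lift (g := φ₁.toRingHom) hunit₁
  have hψs : Function.Surjective ψ := fun x => by
    obtain ⟨y, rfl⟩ := hφ₁s x
    exact ⟨algebraMap C₁ C y, IsLocalization.lift_eq hunit₁ y⟩
  have hψA : ∀ a : A, ψ (algebraMap A C a) = algebraMap (IsLocalRing.ResidueField A) K (IsLocalRing.residue A a) := by
    intro a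
    rw [IsScalarTower.algebraMap_apply A C₁ C, IsLocalization.lift_eq hunit₁]
    change φ₁ (algebraMap A C₁ a) = _
    rw [IsScalarTower.algebraMap_apply A B₀ C₁, AlgHom.commutes, ← IsScalarTower.algebraMap_apply A B₀ K]
    rfl
  haveI : IsLocalHom ψ := by
    refine ⟨fun x hx => ?_⟩
    by_contra h
    have hk : RingHom.ker ψ = IsLocalRing.maximalIdeal C :=
      IsLocalRing.eq_maximalIdeal (RingHom.ker_isMaximal_of_surjective ψ hψs)
    have : x ∈ RingHom.ker ψ := hk ▸ (IsLocalRing.mem_maximalIdeal x).2 h
    exact hx.ne_zero this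
  obtain ⟨S, _, _, _, _, hS⟩ := Groth.Agent.S0506.result C
  haveI := hS
  have hbij := Groth.Agent.S0508.result C S
  haveI hff : Module.FaithfullyFlat C S := Groth.Agent.S0509.result C S
  haveI : Module.Flat C S := hff.toFlat
  letI : Algebra A S := ((algebraMap C S).comp (algebraMap A C)).toAlgebra
  haveI : IsScalarTower A C S := IsScalarTower.of_algebraMap_eq fun _ => rfl
  haveI : Module.Flat A S := Module.Flat.trans A C S
  haveI : HenselianLocalRing S := hS.henselian
  let e := RingEquiv.ofBijective (IsLocalRing.ResidueField.map (algebraMap C S)) hbij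
  let π : S →+* K := ((IsLocalRing.ResidueField.lift ψ).comp e.symm.toRingHom).comp (IsLocalRing.residue S)
  have hπ : ∀ c : C, π (algebraMap C S c) = ψ c := fun c => by
    show IsLocalRing.ResidueField.lift ψ (e.symm (IsLocalRing.residue S (algebraMap C S c))) = _
    rw [show IsLocalRing.residue S (algebraMap C S c) = e (IsLocalRing.residue C c) from rfl,
      e.symm_apply_apply]
    rfl
  refine ⟨S, inferInstance, inferInstance, inferInstance, inferInstance, π, fun x => ?_, fun a => ?_⟩
  · obtain ⟨c, rfl⟩ := hψs x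
    exact ⟨algebraMap C S c, hπ c⟩
  · exact (hπ _).trans (hψA a)

end Groth.Agent.SteinX
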