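import Groth.Agent.S4567
import Groth.Agent.UnibEtale.Basic
import Groth.Agent.MorLib.UnivHomeo
import Mathlib

/-!
# Integral morphisms to geometrically unibranch schemes which are radicial at the generic point
-/

universe u

set_option backward.isDefEq.respectTransparency false
set_option backward.isDefEq.respectTransparency.types false
set_option linter.style.haveILetI false
set_option maxHeartbeats 1000000

open CategoryTheory CategoryTheory.Limits AlgebraicGeometry TopologicalSpace

namespace Groth.Agent.SteinX

open MorLib.RUH in
/-- An integral extension of domains with radicial extension of fraction fields over a geometrically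
unibranch domain is radicial. -/
theorem radicial_of_unibranch {A B : Type u} [CommRing A] [IsDomain A] [CommRing B] [IsDomain B] [Algebra A B]
    [Algebra.IsIntegral A B] (hinj : Function.Injective (algebraMap A B))
    (hA : ∀ (p : Ideal A) [p.IsPrime], CAlg2.IsGeomUnibranch (Localization.AtPrime p))
    (hgen : Radicial (algebraMap A (FractionRing B))) : Radicial (algebraMap A B) := by
  let K := FractionRing A
  let L := FractionRing B
  have hAL : Function.Injective (algebraMap A L) := by
    rw [IsScalarTower.algebraMap_eq A B L]
    exact (IsFractionRing.injective B L).comp hinj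
  haveI : FaithfulSMul A L := (faithfulSMul_iff_algebraMap_injective A L).2 hAL
  letI : Algebra K L := FractionRing.liftAlgebra A L
  haveI : IsScalarTower A K L := FractionRing.isScalarTower_liftAlgebra A L
  haveI : Subsingleton (Field.Emb K L) := ⟨fun φ ψ => by
    have : φ.toRingHom = ψ.toRingHom := hgen _ _ _ (RingHom.ext fun a => by
      show φ (algebraMap A L a) = ψ (algebraMap A L a)
      rw [IsScalarTower.algebraMap_apply A K L, AlgHom.commutes, AlgHom.commutes])
    exact AlgHom.ext fun x => RingHom.congr_fun this x⟩
  haveI : IsPurelyInseparable K L := (isPurelyInseparable_iff_finSepDegree_eq_one K L).2 Nat.card_unique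
  let A' := integralClosure A K
  have hrad : Radicial (algebraMap A A') := S4567.radicial_of_gu fun p _ => by
    haveI : IsDomain (Localization.AtPrime p) :=
      IsLocalization.isDomain_localization p.primeCompl_le_nonZeroDivisors
    obtain ⟨e⟩ := S4567.red_equiv (Localization.AtPrime p)
    exact UnivOpen.GU.of_ringEquiv e (UnivOpen.GU.of_isGeomUnibranch (hA p))
  let B' := integralClosure A L
  let j : B →+* B' :=
    (algebraMap B L).codRestrict B' fun b =>
      IsIntegral.map (IsScalarTower.toAlgHom A B L) (Algebra.IsIntegral.isIntegral b)
  have hj : Function.Injective j := fun x y h => IsFractionRing.injective B L (congrArg Subtype.val h)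
  have hjA : j.comp (algebraMap A B) = algebraMap A B' :=
    RingHom.ext fun a => Subtype.ext (IsScalarTower.algebraMap_apply A B L a).symm
  have hrad' : Radicial (algebraMap A B') := by
    intro Ω _ f g hfg
    refine RingHom.ext fun x => ?_
    obtain ⟨q, hq⟩ := ExpChar.exists A
    haveI : ExpChar K q := expChar_of_injective_algebraMap (IsFractionRing.injective A K) q
    obtain ⟨n, y, hy⟩ := IsPurelyInseparable.pow_mem K q (x : L)
    have hyint : IsIntegral A y := by
      refine (isIntegral_algHom_iff (IsScalarTower.toAlgHom A K L) (algebraMap K L).injective).1 ?_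
      show IsIntegral A (algebraMap K L y)
      rw [hy]
      exact x.2.pow _
    let ι : A' →+* B' :=
      ((algebraMap K L).comp A'.val.toRingHom).codRestrict B' fun a =>
        IsIntegral.map (IsScalarTower.toAlgHom A K L) a.2
    have hι : ι.comp (algebraMap A A') = algebraMap A B' :=
      RingHom.ext fun a => Subtype.ext (IsScalarTower.algebraMap_apply A K L a).symm
    have e : f.comp ι = g.comp ι := hrad Ω _ _ (by
      rw [RingHom.comp_assoc, RingHom.comp_assoc, hι, hfg])
    have hx : x ^ q ^ n = ι ⟨y, hyint⟩ := Subtype.ext hy.symm
    have hpow : f x ^ q ^ n = g x ^ q ^ n := by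
      rw [← map_pow, ← map_pow, hx]
      exact RingHom.congr_fun e _
    rcases ‹ExpChar A q› with _ | ⟨hq⟩
    · simpa using hpow
    · haveI := Fact.mk hq
      haveI : CharP Ω q :=
        CharP.of_ringHom_of_ne_zero (f.comp (algebraMap A B')) q hq.ne_zero
      haveI : ExpChar Ω q := ExpChar.prime hq
      exact iterateFrobenius_inj Ω q n hpow
  intro Ω _ f g hfg
  have hint : j.IsIntegral := fun x => by
    refine RingHom.IsIntegral.tower_top (f := algebraMap A B) (g := j) ?_ x
    rw [hjA]
    exact fun z => Algebra.IsIntegral.isIntegral z
  have hsurj : AlgebraicGeometry.Surjective (Spec.map (CommRingCat.ofHom j)) :=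
    (surjective_SpecMap_iff j).2 (hint.comap_surjective hj)
  have hcomp : UniversallyInjective
      (Spec.map (CommRingCat.ofHom j) ≫ Spec.map (CommRingCat.ofHom (algebraMap A B))) := by
    rw [← Spec.map_comp, ← CommRingCat.ofHom_comp, hjA]
    exact (universallyInjective_SpecMap_iff _).2 hrad'
  exact (universallyInjective_SpecMap_iff _).1
    (MorLib.universallyInjective_of_comp_surjective _ _ hcomp) Ω f g hfg

end Groth.Agent.SteinX
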